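import Groth.Agent.H83.Complete.Torsion
import Groth.Agent.H83.HopfPts.Points
import Groth.Agent.S3044
import Mathlib

/-! A quasi-finite commutative group of finite presentation is killed by an integer. -/

set_option autoImplicit false

universe u

open TensorProduct WithConv

namespace Groth.Agent.H83.Killed

variable {R : Type u} [CommRing R] {C : Type u} [CommRing C] [HopfAlgebra R C]

/-- The augmentation ideal. -/
noncomputable abbrev aug (R : Type u) [CommRing R] (C : Type u) [CommRing C] [HopfAlgebra R C] : Ideal C :=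
  RingHom.ker (Bialgebra.counitAlgHom R C)

theorem sub_counit_mem (c : C) : c - algebraMap R C (CoalgebraStruct.counit c) ∈ aug R C := by
  rw [RingHom.mem_ker]
  simp

theorem comul_aug {c : C} (hc : c ∈ aug R C) : CoalgebraStruct.comul (R := R) c - c ⊗ₜ[R] (1 : C) - (1 : C) ⊗ₜ[R] c ∈
    Submodule.span R {w : C ⊗[R] C | ∃ a ∈ aug R C, ∃ b ∈ aug R C, w = a ⊗ₜ[R] b} := by
  let T := Submodule.span R {w : C ⊗[R] C | ∃ a ∈ aug R C, ∃ b ∈ aug R C, w = a ⊗ₜ[R] b}
  let f : C ⊗[R] C →ₗ[R] C := (TensorProduct.rid R C).toLinearMap ∘ₗ LinearMap.lTensor C (CoalgebraStruct.counit (R := R))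
  let g : C ⊗[R] C →ₗ[R] C := (TensorProduct.lid R C).toLinearMap ∘ₗ LinearMap.rTensor C (CoalgebraStruct.counit (R := R))
  let h : C ⊗[R] C →ₗ[R] R := CoalgebraStruct.counit (R := R) ∘ₗ f
  have key : ∀ z : C ⊗[R] C, z - f z ⊗ₜ[R] (1 : C) - (1 : C) ⊗ₜ[R] g z + h z • ((1 : C) ⊗ₜ[R] (1 : C)) ∈ T := by
    intro z
    induction z using TensorProduct.induction_on with
    | zero => simp
    | add p q hp hq =>
      convert add_mem hp hq using 1
      simp only [map_add, TensorProduct.add_tmul, TensorProduct.tmul_add, add_smul]; abel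
    | tmul a b =>
      refine Submodule.subset_span ⟨_, sub_counit_mem a, _, sub_counit_mem b, ?_⟩
      simp only [f, g, h, LinearMap.comp_apply, LinearMap.lTensor_tmul, LinearMap.rTensor_tmul, LinearEquiv.coe_coe,
        TensorProduct.rid_tmul, TensorProduct.lid_tmul, map_smul, Algebra.algebraMap_eq_smul_one, TensorProduct.sub_tmul,
        TensorProduct.tmul_sub, TensorProduct.tmul_smul, ← TensorProduct.smul_tmul', smul_eq_mul, smul_sub]
      module
  have hf : f (CoalgebraStruct.comul (R := R) c) = c := by simp [f, Coalgebra.lTensor_counit_comul]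
  have hg : g (CoalgebraStruct.comul (R := R) c) = c := by simp [g, Coalgebra.rTensor_counit_comul]
  have hh : h (CoalgebraStruct.comul (R := R) c) = 0 := by
    show CoalgebraStruct.counit (R := R) (f (CoalgebraStruct.comul (R := R) c)) = 0
    rw [hf]; exact hc
  have := key (CoalgebraStruct.comul (R := R) c)
  rwa [hf, hg, hh, zero_smul, add_zero] at this

/-- The `m`-th power map is multiplication by `m` on the cotangent space at the unit. -/
theorem powConv_sub_mem (m : ℕ) {x : C} (hx : x ∈ aug R C) :
    SGA3b.powConv R C m x - m • x ∈ (aug R C) ^ 2 := by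
  induction m with
  | zero =>
    rw [zero_smul, sub_zero]
    have : SGA3b.powConv R C 0 x = algebraMap R C (CoalgebraStruct.counit x) := by simp [SGA3b.powConv]
    rw [this, show CoalgebraStruct.counit (R := R) x = 0 from hx, map_zero]
    exact zero_mem _
  | succ m ih =>
    let p : WithConv (C →ₐ[R] C) := (toConv (AlgHom.id R C)) ^ m
    let L : C ⊗[R] C →ₐ[R] C := Algebra.TensorProduct.lift p.ofConv (AlgHom.id R C) (fun _ _ => Commute.all _ _)
    have hL : SGA3b.powConv R C (m + 1) x = L (CoalgebraStruct.comul (R := R) x) := by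
      rw [SGA3b.powConv, pow_succ, AlgHom.convMul_apply]
    have hp : ∀ a ∈ aug R C, p.ofConv a ∈ aug R C := fun a ha => by
      rw [RingHom.mem_ker]
      show Bialgebra.counitAlgHom R C (SGA3b.powConv R C m a) = 0
      rw [Groth.Agent.Lib.OT67.counit_powConv]
      exact ha
    have h2 : ∀ w ∈ Submodule.span R {w : C ⊗[R] C | ∃ a ∈ aug R C, ∃ b ∈ aug R C, w = a ⊗ₜ[R] b}, L w ∈ (aug R C) ^ 2 := by
      intro w hw
      induction hw using Submodule.span_induction with
      | mem w hw =>
        obtain ⟨a, ha, b, hb, rfl⟩ := hw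
        rw [Algebra.TensorProduct.lift_tmul, AlgHom.id_apply, pow_two]
        exact Ideal.mul_mem_mul (hp a ha) hb
      | zero => simp
      | add p q _ _ hp hq => rw [map_add]; exact add_mem hp hq
      | smul r p _ hp => rw [map_smul]; exact Submodule.smul_of_tower_mem _ r hp
    have h3 := h2 _ (comul_aug hx)
    rw [map_sub, map_sub, ← hL, Algebra.TensorProduct.lift_tmul, Algebra.TensorProduct.lift_tmul, map_one, map_one,
      AlgHom.id_apply, one_mul, mul_one] at h3
    have h4 := add_mem h3 ih
    convert h4 using 1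
    show _ = SGA3b.powConv R C (m + 1) x - p.ofConv x - x + (p.ofConv x - m • x)
    rw [succ_nsmul]
    abel

/-- A power map multiplying the cotangent space by a killing integer squares its ideal. -/
theorem exists_pow_le {N m : ℕ} (hm : ∀ x ∈ aug R C, m • x ∈ (aug R C) ^ 2) :
    (aug R C).map (SGA3b.powConv R C (N * m)) ≤ ((aug R C).map (SGA3b.powConv R C N)) ^ 2 := by
  rw [Ideal.map_le_iff_le_comap]
  intro x hx
  rw [Ideal.mem_comap, ← Groth.Agent.Lib.OT67.powConv_comp, AlgHom.comp_apply, ← Ideal.map_pow]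
  refine Ideal.mem_map_of_mem _ ?_
  have := add_mem (powConv_sub_mem m hx) (hm x hx)
  rwa [sub_add_cancel] at this

theorem aug_fg (hfp : Algebra.FinitePresentation R C) : (aug R C).FG :=
  haveI := hfp
  Algebra.FinitePresentation.ker_fG_of_surjective (Bialgebra.counitAlgHom R C)
    fun r => ⟨algebraMap R C r, (Bialgebra.counitAlgHom R C).commutes r⟩

/-- In characteristic zero a finite fibre has no cotangent space. -/
theorem fibre_aug {K : Type u} [Field K] [IsAlgClosed K] [CharZero K] {D : Type u} [CommRing D] [HopfAlgebra K D]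
    [Module.Finite K D] : aug K D ≤ (aug K D) ^ 2 := by
  intro x hx
  haveI : IsReduced D := HopfPts.isReduced (k := K) (A := D)
  haveI : IsArtinianRing D := IsArtinianRing.of_finite K D
  obtain ⟨n, y, hy⟩ := IsArtinian.exists_pow_succ_smul_dvd x (1 : D)
  have h : (x * (1 - y * x)) = 0 := by
    refine IsReduced.eq_zero _ ⟨n + 1, ?_⟩
    have h1 : x ^ n.succ * y = x ^ n := by simpa [smul_eq_mul] using hy
    have h2 : x ^ n * (1 - y * x) = 0 := by
      rw [mul_sub, mul_one, ← mul_assoc, mul_right_comm, ← pow_succ, h1, sub_self]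
    rw [mul_pow, pow_succ x n, pow_succ (1 - y * x) n, show x ^ n * x * ((1 - y * x) ^ n * (1 - y * x)) =
      (x ^ n * (1 - y * x)) * (x * (1 - y * x) ^ n) by ring, h2, zero_mul]
  rw [mul_sub, mul_one, sub_eq_zero] at h
  rw [h, show x * (y * x) = y * (x * x) by ring, pow_two]
  exact Ideal.mul_mem_left _ _ (Ideal.mul_mem_mul hx hx)

theorem tmul_mem_aug (K : Type u) [CommRing K] [Algebra R K] {x : C} (hx : x ∈ aug R C) :
    (1 : K) ⊗ₜ[R] x ∈ aug K (K ⊗[R] C) := by
  rw [RingHom.mem_ker]
  show CoalgebraStruct.counit (R := K) ((1 : K) ⊗ₜ[R] x) = 0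
  rw [TensorProduct.counit_tmul, show CoalgebraStruct.counit (R := R) x = 0 from hx, zero_smul]

/-- A finite module over a ring, killed at all the points of characteristic zero, is killed by an integer. -/
theorem exists_nat_kill {W : Type u} [AddCommGroup W] [Module R W] [Module.Finite R W]
    (h : ∀ (K : Type u) [Field K] [Algebra R K] [IsAlgClosed K] [CharZero K], ∀ w : W, (1 : K) ⊗ₜ[R] w = 0) :
    ∃ m : ℕ, 0 < m ∧ ∀ w : W, m • w = 0 := by
  classical
  by_contra hn
  simp only [not_exists, not_and] at hn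
  let S : Submonoid R := (nonZeroDivisors ℕ).map (Nat.castRingHom R)
  have hdisj : Disjoint (Module.annihilator R W : Set R) (S : Set R) := by
    rw [Set.disjoint_left]
    rintro _ hann ⟨m, hm, rfl⟩
    refine hn m (Nat.pos_of_ne_zero (nonZeroDivisors.ne_zero hm)) fun w => ?_
    rw [← Nat.cast_smul_eq_nsmul R]
    exact Module.mem_annihilator.mp hann w
  obtain ⟨p, hp, hle, hpS⟩ := Ideal.exists_le_prime_disjoint _ S hdisj
  haveI := hp
  let κ := p.ResidueField
  haveI : CharZero κ := charZero_of_inj_zero fun n hn0 => by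
    by_contra hne
    rw [← map_natCast (algebraMap R κ), Ideal.algebraMap_residueField_eq_zero] at hn0
    exact Set.disjoint_left.mp hpS hn0 ⟨n, mem_nonZeroDivisors_of_ne_zero hne, rfl⟩
  haveI : CharZero (AlgebraicClosure κ) := charZero_of_injective_algebraMap (algebraMap κ (AlgebraicClosure κ)).injective
  have hκ : ∀ z : κ ⊗[R] W, z = 0 := by
    intro z
    apply Module.FaithfullyFlat.tensorProduct_mk_injective (A := κ) (B := AlgebraicClosure κ) (κ ⊗[R] W)
    simp only [TensorProduct.mk_apply, TensorProduct.tmul_zero]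
    apply (TensorProduct.AlgebraTensorModule.cancelBaseChange R κ (AlgebraicClosure κ) (AlgebraicClosure κ) W).injective
    rw [map_zero]
    induction z using TensorProduct.induction_on with
    | zero => simp
    | add a b ha hb => rw [TensorProduct.tmul_add, map_add, ha, hb, add_zero]
    | tmul a w =>
      rw [TensorProduct.AlgebraTensorModule.cancelBaseChange_tmul,
        show (a • (1 : AlgebraicClosure κ)) ⊗ₜ[R] w = (a • (1 : AlgebraicClosure κ)) • ((1 : AlgebraicClosure κ) ⊗ₜ[R] w) by
          rw [TensorProduct.smul_tmul', smul_eq_mul, mul_one], h (AlgebraicClosure κ) w, smul_zero]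
  have hsupp : (⟨p, hp⟩ : PrimeSpectrum R) ∈ Module.support R W := by
    rw [Module.support_eq_zeroLocus]
    exact hle
  rw [Module.mem_support_iff] at hsupp
  haveI : Subsingleton (κ ⊗[R] W) := ⟨fun a b => by rw [hκ a, hκ b]⟩
  haveI : Subsingleton (LocalizedModule p.primeCompl W) := by
    haveI : Subsingleton (κ ⊗[Localization.AtPrime p] (Localization.AtPrime p ⊗[R] W)) :=
      (TensorProduct.AlgebraTensorModule.cancelBaseChange R (Localization.AtPrime p) κ κ W).injective.subsingleton
    haveI := IsLocalRing.subsingleton_tensorProduct.mp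
      (inferInstance : Subsingleton (κ ⊗[Localization.AtPrime p] (Localization.AtPrime p ⊗[R] W)))
    exact (IsLocalizedModule.iso p.primeCompl (TensorProduct.mk R (Localization.AtPrime p) W 1)).injective.subsingleton
  exact not_nontrivial _ hsupp

set_option maxHeartbeats 800000 in
/-- The cotangent space at the unit of a quasi-finite group is torsion. -/
theorem exists_nat_kill_aug (hfp : Algebra.FinitePresentation R C) [Algebra.QuasiFinite R C] :
    ∃ m : ℕ, 0 < m ∧ ∀ x ∈ aug R C, m • x ∈ (aug R C) ^ 2 := by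
  classical
  let W := ↥((aug R C).restrictScalars R) ⧸ ((((aug R C) ^ 2).restrictScalars R).comap ((aug R C).restrictScalars R).subtype)
  let mk : C →ₗ[R] W := (Submodule.mkQ _) ∘ₗ LinearMap.codRestrict ((aug R C).restrictScalars R)
    (LinearMap.id - (Algebra.linearMap R C) ∘ₗ CoalgebraStruct.counit) (fun c => sub_counit_mem c)
  have hmk : ∀ x ∈ aug R C, (mk x = 0 ↔ x ∈ (aug R C) ^ 2) := fun x hx => by
    show Submodule.Quotient.mk _ = 0 ↔ _
    rw [Submodule.Quotient.mk_eq_zero, Submodule.mem_comap]
    show x - algebraMap R C (CoalgebraStruct.counit x) ∈ _ ↔ _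
    rw [show CoalgebraStruct.counit (R := R) x = 0 from hx, map_zero, sub_zero]
    rfl
  have hmks : Function.Surjective mk := fun w => by
    obtain ⟨⟨x, hx⟩, rfl⟩ := Submodule.Quotient.mk_surjective _ w
    refine ⟨x, congrArg Submodule.Quotient.mk (Subtype.ext ?_)⟩
    show x - algebraMap R C (CoalgebraStruct.counit x) = x
    rw [show CoalgebraStruct.counit (R := R) x = 0 from hx, map_zero, sub_zero]
  haveI : Module.Finite R W := by
    obtain ⟨s, hs⟩ := aug_fg hfp
    refine ⟨⟨s.image mk, eq_top_iff.mpr fun w _ => ?_⟩⟩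
    obtain ⟨⟨x, hx⟩, rfl⟩ := Submodule.Quotient.mk_surjective _ w
    have key : ∀ y ∈ Ideal.span (s : Set C), ∀ c : C, mk (c * y) ∈ Submodule.span R ((s.image mk : Finset W) : Set W) := by
      intro y hy
      induction hy using Submodule.span_induction with
      | mem y hy =>
        intro c
        have hyI : y ∈ aug R C := hs ▸ Ideal.subset_span hy
        have h0 : mk (c * y) = CoalgebraStruct.counit (R := R) c • mk y := by
          have h1 : mk ((c - algebraMap R C (CoalgebraStruct.counit c)) * y) = 0 :=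
            (hmk _ (Ideal.mul_mem_left _ _ hyI)).mpr (by rw [pow_two]; exact Ideal.mul_mem_mul (sub_counit_mem c) hyI)
          rwa [sub_mul, map_sub, ← Algebra.smul_def, map_smul, sub_eq_zero] at h1
        rw [h0]
        exact Submodule.smul_mem _ _ (Submodule.subset_span (Finset.mem_image_of_mem _ hy))
      | zero => intro c; simp
      | add p q _ _ hp hq => intro c; rw [mul_add, map_add]; exact add_mem (hp c) (hq c)
      | smul r p _ hp => intro c; rw [smul_eq_mul, ← mul_assoc]; exact hp _
    have h2 := key x (hs ▸ hx) 1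
    rw [one_mul] at h2
    convert h2 using 1
    exact congrArg Submodule.Quotient.mk (Subtype.ext (show x = x - algebraMap R C (CoalgebraStruct.counit x) by
      rw [show CoalgebraStruct.counit (R := R) x = 0 from hx, map_zero, sub_zero]))
  obtain ⟨m, hm, hmW⟩ := exists_nat_kill (R := R) (W := W) fun K _ _ _ _ w => by
    obtain ⟨x, rfl⟩ := hmks w
    haveI : Module.Finite K (K ⊗[R] C) := Module.Finite.of_quasiFinite
    let Φ : K ⊗[R] C →ₗ[K] K ⊗[R] W := LinearMap.baseChange K mk
    have hprod : ∀ a b : C, Φ (((1 : K) ⊗ₜ[R] a - algebraMap K (K ⊗[R] C) (CoalgebraStruct.counit (R := K) ((1 : K) ⊗ₜ[R] a))) *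
        ((1 : K) ⊗ₜ[R] b - algebraMap K (K ⊗[R] C) (CoalgebraStruct.counit (R := K) ((1 : K) ⊗ₜ[R] b)))) = 0 := by
      intro a b
      have h1 : ∀ a : C, (1 : K) ⊗ₜ[R] a - algebraMap K (K ⊗[R] C) (CoalgebraStruct.counit (R := K) ((1 : K) ⊗ₜ[R] a)) =
          (1 : K) ⊗ₜ[R] (a - algebraMap R C (CoalgebraStruct.counit a)) := fun a => by
        rw [TensorProduct.counit_tmul, CommSemiring.counit_apply, TensorProduct.tmul_sub, Algebra.algebraMap_eq_smul_one (A := C),
          ← TensorProduct.smul_tmul, Algebra.TensorProduct.algebraMap_apply]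
        rfl
      rw [h1, h1, Algebra.TensorProduct.tmul_mul_tmul, one_mul, LinearMap.baseChange_tmul,
        (hmk _ (Ideal.mul_mem_left _ _ (sub_counit_mem b))).mpr (by rw [pow_two]; exact Ideal.mul_mem_mul (sub_counit_mem a) (sub_counit_mem b)),
        TensorProduct.tmul_zero]
    have hgen : ∀ y ∈ (aug K (K ⊗[R] C)), y ∈ Submodule.span K (Set.range fun a : C => (1 : K) ⊗ₜ[R] a -
        algebraMap K (K ⊗[R] C) (CoalgebraStruct.counit (R := K) ((1 : K) ⊗ₜ[R] a))) := by
      intro y hy
      have : ∀ z : K ⊗[R] C, z - algebraMap K (K ⊗[R] C) (CoalgebraStruct.counit (R := K) z) ∈ Submodule.span K (Set.range fun a : C => (1 : K) ⊗ₜ[R] a -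
          algebraMap K (K ⊗[R] C) (CoalgebraStruct.counit (R := K) ((1 : K) ⊗ₜ[R] a))) := by
        intro z
        induction z using TensorProduct.induction_on with
        | zero => simp
        | add p q hp hq => rw [map_add, map_add, add_sub_add_comm]; exact add_mem hp hq
        | tmul t a =>
          rw [show t ⊗ₜ[R] a = t • ((1 : K) ⊗ₜ[R] a) by rw [TensorProduct.smul_tmul', smul_eq_mul, mul_one],
            map_smul, smul_eq_mul, map_mul, ← Algebra.smul_def, ← smul_sub]
          exact Submodule.smul_mem _ _ (Submodule.subset_span ⟨a, rfl⟩)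
      have h2 := this y
      rwa [show CoalgebraStruct.counit (R := K) y = 0 from hy, map_zero, sub_zero] at h2
    have hsq : ∀ y ∈ (aug K (K ⊗[R] C)) ^ 2, Φ y = 0 := by
      intro y hy
      rw [pow_two] at hy
      induction hy using Submodule.mul_induction_on' with
      | mem_mul_mem a ha b hb =>
        have ha' := hgen a ha
        clear ha
        induction ha' using Submodule.span_induction with
        | mem a ha =>
          obtain ⟨a, rfl⟩ := ha
          have hb' := hgen b hb
          clear hb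
          induction hb' using Submodule.span_induction with
          | mem b hb => obtain ⟨b, rfl⟩ := hb; exact hprod a b
          | zero => simp
          | add p q _ _ hp hq => rw [mul_add, map_add, hp, hq, add_zero]
          | smul r p _ hp => rw [mul_smul_comm, map_smul, hp, smul_zero]
        | zero => simp
        | add p q _ _ hp hq => rw [add_mul, map_add, hp, hq, add_zero]
        | smul r p _ hp => rw [smul_mul_assoc, map_smul, hp, smul_zero]
      | add p _ q _ hp hq => rw [map_add, hp, hq, add_zero]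
    have h3 := hsq _ (fibre_aug (tmul_mem_aug K (sub_counit_mem x)))
    rw [LinearMap.baseChange_tmul, map_sub, Algebra.algebraMap_eq_smul_one, map_smul,
      show mk 1 = 0 by
        show Submodule.Quotient.mk _ = 0
        rw [Submodule.Quotient.mk_eq_zero, Submodule.mem_comap]
        show (1 : C) - algebraMap R C (CoalgebraStruct.counit (1 : C)) ∈ _
        rw [show CoalgebraStruct.counit (R := R) (1 : C) = 1 from Bialgebra.counit_one, map_one, sub_self]
        exact zero_mem _, smul_zero, sub_zero] at h3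
    exact h3
  refine ⟨m, hm, fun x hx => ?_⟩
  rw [← hmk _ (nsmul_mem hx m), map_nsmul]
  exact hmW _

set_option maxHeartbeats 800000 in
/-- A quasi-finite commutative group of finite presentation is killed by a positive integer. -/
theorem exists_powConv_eq_one [Coalgebra.IsCocomm R C] (hfp : Algebra.FinitePresentation R C) [Algebra.QuasiFinite R C] :
    ∃ n : ℕ, 0 < n ∧ ∀ c : C, SGA3b.powConv R C n c = algebraMap R C (CoalgebraStruct.counit c) := by
  classical
  obtain ⟨s, hs⟩ := aug_fg hfp
  let J : ℕ → Ideal C := fun n => (aug R C).map (SGA3b.powConv R C n)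
  have hJmul : ∀ n N, J (n * N) ≤ J n := fun n N => by
    refine Ideal.map_le_iff_le_comap.mpr fun c hc => ?_
    rw [Ideal.mem_comap, ← Groth.Agent.Lib.OT67.powConv_comp]
    refine Ideal.mem_map_of_mem (SGA3b.powConv R C n) (show SGA3b.powConv R C N c ∈ aug R C from ?_)
    rw [RingHom.mem_ker, Groth.Agent.Lib.OT67.counit_powConv]
    exact hc
  -- fibrewise
  have hfib : ∀ q : PrimeSpectrum C, ∃ n, 0 < n ∧ J n ≤ q.asIdeal := by
    intro q
    let p := q.asIdeal.comap (algebraMap R C)
    let K := p.ResidueField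
    haveI : Module.Finite K (K ⊗[R] C) := Module.Finite.of_quasiFinite
    haveI : Nontrivial (K ⊗[R] C) := Function.Surjective.nontrivial
      (f := Bialgebra.counitAlgHom K (K ⊗[R] C)) fun r => ⟨algebraMap K _ r, (Bialgebra.counitAlgHom K (K ⊗[R] C)).commutes r⟩
    refine ⟨Module.finrank K (K ⊗[R] C), Module.finrank_pos, Ideal.map_le_iff_le_comap.mpr fun c hc => ?_⟩
    have h := Groth.Agent.S3044.result K (K ⊗[R] C)
    have h1 : SGA3b.powConv K (K ⊗[R] C) (Module.finrank K (K ⊗[R] C)) ((1 : K) ⊗ₜ[R] c) = 0 := by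
      rw [SGA3b.powConv, h]
      show algebraMap K _ (CoalgebraStruct.counit (R := K) ((1 : K) ⊗ₜ[R] c)) = 0
      rw [show CoalgebraStruct.counit (R := K) ((1 : K) ⊗ₜ[R] c) = 0 from tmul_mem_aug K hc, map_zero]
    rw [Groth.Agent.Lib.H58Versch.powConv_tmul] at h1
    let π : C →ₐ[R] q.asIdeal.ResidueField := IsScalarTower.toAlgHom R C _
    let χ : K ⊗[R] C →ₐ[R] q.asIdeal.ResidueField :=
      Algebra.TensorProduct.lift (Ideal.ResidueField.mapₐ p q.asIdeal (Algebra.ofId R C) rfl) π fun _ _ => Commute.all _ _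
    have h2 := congrArg χ h1
    rw [map_zero, Algebra.TensorProduct.lift_tmul, map_one, one_mul] at h2
    show SGA3b.powConv R C (Module.finrank K (K ⊗[R] C)) c ∈ q.asIdeal
    exact Ideal.algebraMap_residueField_eq_zero.mp h2
  -- compactness
  obtain ⟨n₀, hn₀, hnil⟩ : ∃ n, 0 < n ∧ J n ≤ nilradical C := by
    let X := WithConstructibleTopology (PrimeSpectrum C)
    let Z : ℕ → Set X := fun n => WithTopology.toTopology _ '' {q : PrimeSpectrum C | J (n + 1) ≤ q.asIdeal}
    have hopen : ∀ n, IsOpen (Z n) := fun n => by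
      rw [WithConstructibleTopology.isOpen_iff, Set.preimage_image_eq _ (WithTopology.toTopology_bijective _).1]
      obtain ⟨t, ht⟩ := Ideal.FG.map (Submodule.fg_span (s.finite_toSet) : (Ideal.span (s : Set C)).FG) (SGA3b.powConv R C (n + 1) : C →+* C)
      have hset : {q : PrimeSpectrum C | J (n + 1) ≤ q.asIdeal} = PrimeSpectrum.zeroLocus (t : Set C) := by
        ext q
        rw [PrimeSpectrum.mem_zeroLocus, Set.mem_setOf_eq]
        show Ideal.map _ (aug R C) ≤ _ ↔ _
        rw [← hs, ← Ideal.span_le]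
        show Ideal.map (SGA3b.powConv R C (n + 1) : C →+* C) (Ideal.span (s : Set C)) ≤ _ ↔ _
        rw [← ht]
      rw [hset]
      refine IsCompact.isOpen_constructibleTopology_of_isClosed ?_ (PrimeSpectrum.isClosed_zeroLocus _)
      exact (PrimeSpectrum.isCompact_isOpen_iff.mpr ⟨t, rfl⟩).1
    obtain ⟨F, hF⟩ := isCompact_univ.elim_finite_subcover Z hopen fun x _ => by
      obtain ⟨q, rfl⟩ := WithTopology.toTopology_surjective _ x
      obtain ⟨n, hn, hq⟩ := hfib q
      exact Set.mem_iUnion.mpr ⟨n - 1, q, by rwa [Set.mem_setOf_eq, Nat.sub_add_cancel hn], rfl⟩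
    refine ⟨∏ i ∈ F, (i + 1), Finset.prod_pos fun i _ => Nat.succ_pos i, fun c hc => ?_⟩
    rw [nilradical_eq_sInf, Ideal.mem_sInf]
    intro P hP
    obtain ⟨i, hi, q, hq, hqP⟩ := Set.mem_iUnion₂.mp (hF (Set.mem_univ (WithTopology.toTopology _ (⟨P, hP⟩ : PrimeSpectrum C))))
    have hPq := (WithTopology.toTopology_bijective _).1 hqP
    subst hPq
    obtain ⟨r, hr⟩ := Finset.dvd_prod_of_mem (fun i => i + 1) hi
    exact hq (hJmul _ r (by rwa [← hr]))
  have hfgJ : (J n₀).FG := Ideal.FG.map (aug_fg hfp) _
  obtain ⟨e, he⟩ := Ideal.exists_pow_le_of_le_radical_of_fg hnil hfgJ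
  obtain ⟨m, hm, hmI⟩ := exists_nat_kill_aug hfp
  have hj : ∀ j, J (n₀ * m ^ j) ≤ (J n₀) ^ (2 ^ j) := fun j => by
    induction j with
    | zero => simp
    | succ j ih =>
      rw [pow_succ m, ← mul_assoc, pow_succ 2, pow_mul]
      exact (exists_pow_le (N := n₀ * m ^ j) hmI).trans (Ideal.pow_right_mono ih 2)
  refine ⟨n₀ * m ^ e, Nat.mul_pos hn₀ (pow_pos hm e), fun c => ?_⟩
  have h : SGA3b.powConv R C (n₀ * m ^ e) (c - algebraMap R C (CoalgebraStruct.counit c)) = 0 := by
    rw [← Ideal.mem_bot]
    exact he (Ideal.pow_le_pow_right Nat.lt_two_pow_self.le (hj e (Ideal.mem_map_of_mem _ (sub_counit_mem c))))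
  rwa [map_sub, AlgHom.commutes, sub_eq_zero] at h

end Groth.Agent.H83.Killed
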