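import Groth.Agent.H83.Killed.Basic
import Groth.Agent.H83.Dense.Translate
import Mathlib

/-! A group of finite type over a local ring with finite closed fibre is quasi-finite. -/

set_option autoImplicit false

universe u

open TensorProduct WithConv

namespace Groth.Agent.H83.Killed

theorem counit_trans {k : Type u} [CommRing k] {C : Type u} [CommRing C] [HopfAlgebra k C]
    (g : WithConv (C →ₐ[k] k)) (c : C) : CoalgebraStruct.counit (R := k) (Dense.trans g c) = g.ofConv c := by
  have h := Dense.point_trans g (1 : WithConv (C →ₐ[k] k)) c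
  rw [mul_one] at h
  exact h

set_option maxHeartbeats 400000 in
/-- A group over an algebraically closed field with isolated unit is finite. -/
theorem finite_of_isOpen_unit {K : Type u} [Field K] [IsAlgClosed K] {D : Type u} [CommRing D] [HopfAlgebra K D]
    [Coalgebra.IsCocomm K D] [Algebra.FiniteType K D]
    (h : IsOpen ({q : PrimeSpectrum D | q.asIdeal = aug K D})) : Module.Finite K D := by
  classical
  haveI : IsNoetherianRing D := Algebra.FiniteType.isNoetherianRing K D
  have hmax : ∀ P : PrimeSpectrum D, P.asIdeal.IsMaximal := by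
    intro P
    obtain ⟨M, hM, hle⟩ := Ideal.exists_le_maximal P.asIdeal P.isPrime.ne_top
    haveI := hM
    letI := Ideal.Quotient.field M
    haveI : Algebra.FiniteType K (D ⧸ M) := Algebra.FiniteType.of_surjective (Ideal.Quotient.mkₐ K M) Ideal.Quotient.mk_surjective
    haveI : Module.Finite K (D ⧸ M) := finite_of_finite_type_of_isJacobsonRing K _
    let σ := AlgEquiv.ofBijective (Algebra.ofId K (D ⧸ M)) (IsAlgClosed.algebraMap_bijective_of_isIntegral (k := K) (K := D ⧸ M))
    let g : WithConv (D →ₐ[K] K) := toConv (σ.symm.toAlgHom.comp (Ideal.Quotient.mkₐ K M))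
    have hg : ∀ c, g.ofConv c = 0 ↔ c ∈ M := fun c => by
      show σ.symm (Ideal.Quotient.mk M c) = 0 ↔ _
      rw [map_eq_zero_iff _ σ.symm.injective, Ideal.Quotient.eq_zero_iff_mem]
    let τ : PrimeSpectrum D → PrimeSpectrum D := PrimeSpectrum.comap (Dense.trans g⁻¹).toRingHom
    have hM1 : τ ⟨M, hM.isPrime⟩ ∈ {q : PrimeSpectrum D | q.asIdeal = aug K D} := by
      show M.comap (Dense.trans g⁻¹).toRingHom = aug K D
      ext c
      show Dense.trans g⁻¹ c ∈ M ↔ Bialgebra.counitAlgHom K D c = 0
      rw [← hg, Dense.point_trans, inv_mul_cancel]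
      rfl
    have hopen : IsOpen (τ ⁻¹' {q : PrimeSpectrum D | q.asIdeal = aug K D}) :=
      h.preimage (PrimeSpectrum.continuous_comap _)
    have hP : P ∈ τ ⁻¹' {q : PrimeSpectrum D | q.asIdeal = aug K D} :=
      ((PrimeSpectrum.le_iff_specializes P ⟨M, hM.isPrime⟩).mp hle).mem_open hopen hM1
    have hPM : P = ⟨M, hM.isPrime⟩ := by
      have hinj : Function.Injective τ := PrimeSpectrum.comap_injective_of_surjective _ fun c =>
        ⟨Dense.trans g c, by
          show Dense.trans g⁻¹ (Dense.trans g c) = c
          rw [Dense.trans_trans, mul_inv_cancel, Dense.trans_one, AlgHom.id_apply]⟩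
      refine hinj (PrimeSpectrum.ext ?_)
      exact hP.trans hM1.symm
    rw [hPM]; exact hM
  haveI : Ring.KrullDimLE 0 D := Ring.KrullDimLE.mk₀ fun I hI => hmax ⟨I, hI⟩
  haveI : IsArtinianRing D := isArtinianRing_iff_isNoetherianRing_krullDimLE_zero.mpr ⟨inferInstance, inferInstance⟩
  exact Module.finite_of_isArtinianRing K D

theorem unitPrime_comap {R : Type u} [CommRing R] {C : Type u} [CommRing C] [HopfAlgebra R C] (K : Type u) [Field K]
    [Algebra R K] : (aug K (K ⊗[R] C)).comap (Algebra.TensorProduct.includeRight : C →ₐ[R] K ⊗[R] C).toRingHom =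
      (RingHom.ker (algebraMap R K)).comap (Bialgebra.counitAlgHom R C).toRingHom := by
  ext c
  show CoalgebraStruct.counit (R := K) ((1 : K) ⊗ₜ[R] c) = 0 ↔ algebraMap R K (CoalgebraStruct.counit c) = 0
  rw [TensorProduct.counit_tmul, CommSemiring.counit_apply, Algebra.smul_def, mul_one]

set_option maxHeartbeats 800000 in
set_option synthInstance.maxHeartbeats 200000 in
/-- A group of finite type over a local ring with finite closed fibre is quasi-finite. -/
theorem quasiFinite_of_finite_closedFibre {R : Type u} [CommRing R] [IsLocalRing R] {C : Type u} [CommRing C]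
    [HopfAlgebra R C] [Coalgebra.IsCocomm R C] [Algebra.FiniteType R C]
    (hs : Module.Finite (IsLocalRing.ResidueField R) (IsLocalRing.ResidueField R ⊗[R] C)) :
    Algebra.QuasiFinite R C := by
  classical
  let m := IsLocalRing.maximalIdeal R
  let unit : (p : Ideal R) → Ideal C := fun p => p.comap (Bialgebra.counitAlgHom R C).toRingHom
  have hunit : ∀ (p : Ideal R) [p.IsPrime], (aug p.ResidueField (p.Fiber C)).comap
      (Algebra.TensorProduct.includeRight : C →ₐ[R] p.Fiber C).toRingHom = unit p := fun p _ => by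
    rw [unitPrime_comap, Ideal.ker_algebraMap_residueField]
  haveI hfin : Module.Finite m.ResidueField (m.Fiber C) := by
    letI : Algebra (IsLocalRing.ResidueField R) m.ResidueField := (algebraMap (R ⧸ m) m.ResidueField).toAlgebra
    haveI : IsScalarTower R (IsLocalRing.ResidueField R) m.ResidueField :=
      IsScalarTower.of_algebraMap_eq (R := R) (S := IsLocalRing.ResidueField R) (A := m.ResidueField) fun _ => rfl
    exact Module.Finite.equiv
      (TensorProduct.AlgebraTensorModule.cancelBaseChange R (IsLocalRing.ResidueField R) m.ResidueField m.ResidueField C)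
  haveI hq0p : (aug m.ResidueField (m.Fiber C)).IsPrime := RingHom.ker_isPrime _
  haveI : (unit m).IsPrime := Ideal.IsPrime.comap _
  have hq0 : Algebra.QuasiFiniteAt R (unit m) := by
    haveI : (unit m).LiesOver m := ⟨by
      ext r
      show r ∈ m ↔ Bialgebra.counitAlgHom R C (algebraMap R C r) ∈ m
      rw [AlgHom.commutes]; rfl⟩
    exact Algebra.QuasiFiniteAt.of_quasiFiniteAt_residueField m (unit m) (aug m.ResidueField (m.Fiber C)) (hunit m)
  haveI := hq0
  obtain ⟨S', hS', r, hr, hbij⟩ := Algebra.QuasiFiniteAt.exists_fg_and_exists_notMem_and_awayMap_bijective (R := R) (unit m)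
  haveI : Module.Finite R S' := ⟨(Submodule.fg_top _).mpr hS'⟩
  haveI : Algebra.QuasiFinite R (Localization.Away r) := .trans _ S' _
  haveI : Algebra.QuasiFinite R (Localization.Away r.1) :=
    .of_surjective_algHom (Localization.awayMapₐ S'.val r) hbij.2
  refine ⟨fun p hp => ?_⟩
  have hrp : r.1 ∉ unit p := fun hmem => by
    have hu : IsUnit (Bialgebra.counitAlgHom R C r.1) := IsLocalRing.notMem_maximalIdeal.mp hr
    exact hp.ne_top (Ideal.eq_top_of_isUnit_mem _ hmem hu)
  haveI : (unit p).IsPrime := Ideal.IsPrime.comap _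
  have hqp : Algebra.QuasiFiniteAt R (unit p) := by
    let f : Localization.Away r.1 →ₐ[C] Localization.AtPrime (unit p) :=
      IsLocalization.Away.liftAlgHom r.1 (f := Algebra.ofId _ _) <|
        IsLocalization.map_units (M := (unit p).primeCompl) (Localization.AtPrime (unit p)) ⟨r, hrp⟩
    refine .of_forall_exists_mul_mem_range (f.restrictScalars R) fun x => ?_
    obtain ⟨x, ⟨s, hs'⟩, rfl⟩ := IsLocalization.exists_mk'_eq (unit p).primeCompl x
    exact ⟨algebraMap _ _ s, by simpa using IsLocalization.map_units _ ⟨s, hs'⟩, algebraMap _ _ x, by simp⟩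
  haveI := hqp
  let K := AlgebraicClosure p.ResidueField
  haveI hQp : (aug K (K ⊗[R] C)).IsPrime := RingHom.ker_isPrime _
  haveI : Algebra.QuasiFiniteAt K (aug K (K ⊗[R] C)) := Algebra.QuasiFiniteAt.baseChange (unit p) _ (by
    rw [unitPrime_comap, IsScalarTower.algebraMap_eq R p.ResidueField K, RingHom.ker_comp_of_injective _
      (algebraMap p.ResidueField K).injective, Ideal.ker_algebraMap_residueField])
  have hset : ({q : PrimeSpectrum (K ⊗[R] C) | q.asIdeal = aug K (K ⊗[R] C)}) = {⟨aug K (K ⊗[R] C), hQp⟩} := by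
    ext q; exact ⟨fun h => PrimeSpectrum.ext h, fun h => congrArg PrimeSpectrum.asIdeal h⟩
  haveI : Module.Finite K (K ⊗[R] C) := finite_of_isOpen_unit (hset ▸
    (Algebra.QuasiFiniteAt.isClopen_singleton (R := K) (⟨aug K (K ⊗[R] C), hQp⟩ : PrimeSpectrum (K ⊗[R] C))).isOpen)
  haveI : Module.Finite K (K ⊗[p.ResidueField] (p.Fiber C)) :=
    Module.Finite.equiv (TensorProduct.AlgebraTensorModule.cancelBaseChange R p.ResidueField K K C).symm
  exact Module.Finite.of_finite_tensorProduct_of_faithfullyFlat K

end Groth.Agent.H83.Killed
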